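import Groth.Agent.Lib.ReesReg.Grading

/-!
# Uniform regularity of the powers of an ideal generated by forms of degree `d`
-/

universe u

open CategoryTheory CategoryTheory.Limits AlgebraicGeometry MvPolynomial DirectSum

noncomputable section

namespace Groth.Agent.Lib.ReesReg.Bound

open Groth.Agent.Lib Groth.Agent.Lib.ReesReg.Grading Groth.Agent.Lib.ProjCoh.Coherent
  Groth.Agent.Lib.ProjTildeExact

attribute [local instance] algS

variable {k : Type u} [Field k] {r N : ℕ} (d : ℤ) {q q' : ℕ}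

/-- The bidegree pieces of a shifted free `B`-module. -/
def piece (δ : Fin q → ℤ × ℤ) (D : ℤ × ℤ) : Submodule k (Fin q → B k r N) :=
  Submodule.pi Set.univ fun b => bg k r N d (D - δ b)

theorem mem_piece {δ : Fin q → ℤ × ℤ} {D : ℤ × ℤ} {v : Fin q → B k r N} :
    v ∈ piece d δ D ↔ ∀ b, v b ∈ bg k r N d (D - δ b) := by simp [piece]

theorem lc_apply (g : Fin q' → Fin q → B k r N) (v : Fin q' → B k r N) (b : Fin q) :
    Fintype.linearCombination (B k r N) g v b = ∑ c, v c * g c b := by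
  rw [Fintype.linearCombination_apply, Finset.sum_apply]; rfl

theorem lc_mem_piece {δ : Fin q → ℤ × ℤ} {δ' : Fin q' → ℤ × ℤ} {g : Fin q' → Fin q → B k r N}
    (hg : ∀ c, g c ∈ piece d δ (δ' c)) {D : ℤ × ℤ} {v : Fin q' → B k r N} (hv : v ∈ piece d δ' D) :
    Fintype.linearCombination (B k r N) g v ∈ piece d δ D := by
  refine (mem_piece d).2 fun b => ?_
  rw [lc_apply]
  refine Submodule.sum_mem _ fun c _ => ?_
  have := SetLike.mul_mem_graded ((mem_piece d).1 hv c) ((mem_piece d).1 (hg c) b)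
  rwa [sub_add_sub_cancel] at this

theorem exists_gens (δ : Fin q → ℤ × ℤ) (K : Submodule (B k r N) (Fin q → B k r N)) :
    ∃ (q' : ℕ) (δ' : Fin q' → ℤ × ℤ) (g : Fin q' → Fin q → B k r N),
      (∀ c, g c ∈ piece d δ (δ' c) ∧ g c ∈ K) ∧
      ∀ D, ∀ a ∈ K, a ∈ piece d δ D →
        ∃ v ∈ piece d δ' D, Fintype.linearCombination (B k r N) g v = a := by
  classical
  let G : Set (Fin q → B k r N) := {a | a ∈ K ∧ ∃ D, a ∈ piece d δ D}
  obtain ⟨t, htG, ht⟩ := Submodule.fg_span_iff_fg_span_finset_subset G |>.1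
    (IsNoetherian.noetherian (Submodule.span (B k r N) G))
  let g : Fin t.card → Fin q → B k r N := fun c => (t.equivFin.symm c).1
  have hrange : Set.range g = (t : Set (Fin q → B k r N)) := by
    ext a
    exact ⟨fun ⟨c, hc⟩ => hc ▸ (t.equivFin.symm c).2, fun ha => ⟨t.equivFin ⟨a, ha⟩, by simp [g]⟩⟩
  choose δ' hδ' using fun c => (htG (t.equivFin.symm c).2).2
  refine ⟨t.card, δ', g, fun c => ⟨hδ' c, (htG (t.equivFin.symm c).2).1⟩, fun D a ha haD => ?_⟩
  obtain ⟨h, hh⟩ := (Submodule.mem_span_range_iff_exists_fun (B k r N)).1 (show a ∈ Submodule.span _ (Set.range g) by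
    rw [hrange, ← ht]; exact Submodule.subset_span ⟨ha, D, haD⟩)
  refine ⟨fun c => (decompose (bg k r N d) (h c) (D - δ' c) : B k r N),
    (mem_piece d).2 fun c => SetLike.coe_mem _, funext fun b => ?_⟩
  rw [lc_apply]
  conv_rhs => rw [← decompose_of_mem_same (bg k r N d) ((mem_piece d).1 haD b), ← hh, Finset.sum_apply,
    decompose_sum, DFinsupp.finsetSum_apply, AddSubmonoidClass.coe_finsetSum]
  refine Finset.sum_congr rfl fun c _ => ?_
  have := coe_decompose_mul_add_of_left_mem (bg k r N d) (j := D - δ' c) (b := h c) ((mem_piece d).1 (hδ' c) b)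
  rw [show δ' c - δ b + (D - δ' c) = D - δ b by abel] at this
  rw [Pi.smul_apply, smul_eq_mul, mul_comm (h c), this, mul_comm]

/-- The `S`-pieces of a `B`-submodule, `y`-degree `p`. -/
def grS (δ : Fin q → ℤ × ℤ) (K : Submodule (B k r N) (Fin q → B k r N)) (p : ℤ) (i : ℕ) :
    Submodule k (K.restrictScalars (MvPolynomial (Fin (r + 1)) k)) :=
  (piece d δ ((i : ℤ), p)).comap ((K.restrictScalars (MvPolynomial (Fin (r + 1)) k)).subtype.restrictScalars k)

/-- The `S`-pieces of the free module, `y`-degree `p`. -/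
def frS (δ : Fin q → ℤ × ℤ) (p : ℤ) (i : ℕ) : Submodule k (Fin q → B k r N) := piece d δ ((i : ℤ), p)

instance gradedSMul_frS (δ : Fin q → ℤ × ℤ) (p : ℤ) :
    SetLike.GradedSMul (CohB1.polyGrading r k) (frS (k := k) (r := r) (N := N) d δ p) where
  smul_mem {i j a v} ha hv := (mem_piece d).2 fun b => by
    have := SetLike.mul_mem_graded (rename_mem (N := N) d ha) ((mem_piece d).1 hv b)
    rwa [show ((i : ℤ), (0 : ℤ)) + (((j : ℤ), p) - δ b) = (((i +ᵥ j : ℕ) : ℤ), p) - δ b by
      ext <;> simp [vadd_eq_add] ; ring] at this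

instance gradedSMul_grS (δ : Fin q → ℤ × ℤ) (K : Submodule (B k r N) (Fin q → B k r N)) (p : ℤ) :
    SetLike.GradedSMul (CohB1.polyGrading r k) (grS d δ K p) where
  smul_mem {_ _ a v} ha hv := SetLike.GradedSMul.smul_mem (B := frS (k := k) (r := r) (N := N) d δ p) ha hv

theorem sum_free {δ : Fin q → ℤ × ℤ} {p : ℤ} {l : ℕ} {a : Fin q → B k r N} (ha : a ∈ piece d δ ((l : ℤ), p)) :
    ∑ x : (Σ b : Fin q, ↥(expSet N (p - (δ b).2))), Pi.single x.1 (coef x.2.1 (a x.1) • ym x.2.1) = a := by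
  classical
  rw [Fintype.sum_sigma]
  refine (Finset.sum_congr rfl fun b _ => ?_).trans (Finset.univ_sum_single a)
  refine (map_sum (AddMonoidHom.single (fun _ : Fin q => B k r N) b) _ _).symm.trans (congrArg (Pi.single b) ?_)
  rw [Finset.sum_coe_sort (expSet N (p - (δ b).2)) fun β => coef β (a b) • ym β]
  exact sum_coef d ((mem_piece d).1 ha b)

theorem subsingleton_free (δ : Fin q → ℤ × ℤ) (p : ℤ) {t : ℤ} {i : ℕ} (hi : 1 ≤ i)
    (h : ∀ b, -(i : ℤ) ≤ -((δ b).1 + d * (p - (δ b).2)) + t) :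
    Subsingleton (Coh.HH (CohB1.ProjSpace r k) (CohB1.tensorMod
      (GrTilde.tilde (CohB1.polyGrading r k) (frS (k := k) (r := r) (N := N) d δ p) 0) (tw r k t)) i) := by
  classical
  refine Free.subsingleton_of_coords (ι := Σ b : Fin q, ↥(expSet N (p - (δ b).2)))
    (fun x => (δ x.1).1 + d * (p - (δ x.1).2)) (fun x => (coef x.2.1).comp (LinearMap.proj x.1))
    (fun x => (LinearMap.single _ (fun _ : Fin q => B k r N) x.1).comp
      (LinearMap.toSpanSingleton _ _ (ym x.2.1))) ?_ ?_ ?_ hi fun x => h x.1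
  · intro x l a ha
    have := coef_mem d ((mem_piece d).1 ha x.1) x.2.1
    simpa [sub_sub] using this
  · intro x j l hj a ha
    refine (mem_piece d).2 fun b => ?_
    by_cases hb : b = x.1
    · subst hb
      simp only [LinearMap.comp_apply, LinearMap.toSpanSingleton_apply, LinearMap.single_apply, Pi.single_eq_same]
      have := SetLike.mul_mem_graded (rename_mem (N := N) d ha) (ym_mem d x.2.1)
      rwa [show ((l : ℤ), (0 : ℤ)) + (d * x.2.1.degree, (x.2.1.degree : ℤ)) = ((j : ℤ), p) - δ x.1 by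
        rw [mem_expSet.1 x.2.2, hj]; ext <;> simp; ring] at this
    · simp [Pi.single_eq_of_ne hb]
  · intro l a ha
    exact sum_free d ha

theorem smul_torsion {v : Fin q → B k r N} {u : MvPolynomial (Fin (r + 1)) k} (h : u • v = 0) (e : ℕ) :
    (decompose (CohB1.polyGrading r k) u e : MvPolynomial (Fin (r + 1)) k) • v = 0 := by
  by_cases hu : u = 0
  · simp [hu]
  · funext b
    have hb : rename Sum.inr u * v b = 0 := congrFun h b
    rcases mul_eq_zero.1 hb with h' | h'
    · exact absurd (rename_injective _ Sum.inr_injective (h'.trans (map_zero _).symm)) hu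
    · simp [smul_def, h']

theorem exists_bound_sub {Nd : ℕ}
    (hN : ∀ (M : (CohB1.ProjSpace r k).Modules) (i : ℕ), Nd < i →
      Subsingleton (Coh.HH (CohB1.ProjSpace r k) M i)) :
    ∀ (b i : ℕ), Nd < i + b → 1 ≤ i → ∀ (q : ℕ) (δ : Fin q → ℤ × ℤ) (K : Submodule (B k r N) (Fin q → B k r N)),
      ∃ e : ℤ, ∀ p t : ℤ, d * p + e ≤ t → Subsingleton (Coh.HH (CohB1.ProjSpace r k)
        (CohB1.tensorMod (GrTilde.tilde (CohB1.polyGrading r k) (grS d δ K p) 0) (tw r k t)) i) := by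
  intro b
  induction b with
  | zero => exact fun i hi _ q δ K => ⟨0, fun p t _ => hN _ i (by omega)⟩
  | succ b ih =>
    intro i hb hi q δ K
    obtain ⟨q', δ', g, hg, hsurj⟩ := exists_gens d δ K
    let ψ := Fintype.linearCombination (B k r N) g
    obtain ⟨e', he'⟩ := ih (i + 1) (by omega) (by omega) q' δ' (LinearMap.ker ψ)
    refine ⟨max e' (∑ c, |(δ' c).1 - d * (δ' c).2|), fun p t ht => ?_⟩
    have hK : ∀ v, ψ v ∈ K.restrictScalars (MvPolynomial (Fin (r + 1)) k) := fun v => by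
      rw [Submodule.restrictScalars_mem, Fintype.linearCombination_apply]
      exact Submodule.sum_mem _ fun c _ => Submodule.smul_mem _ _ (hg c).2
    let ψS : (Fin q' → B k r N) →ₗ[MvPolynomial (Fin (r + 1)) k]
        K.restrictScalars (MvPolynomial (Fin (r + 1)) k) :=
      (ψ.restrictScalars (MvPolynomial (Fin (r + 1)) k)).codRestrict _ hK
    refine ProjKoszul.Reg2.sub₃ k (shortExact_tw (shortExact_tilde (𝒩 := grS d δ' (LinearMap.ker ψ) p)
      (ℳ := frS d δ' p) (ℒ := grS d δ K p)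
      ((LinearMap.ker ψ).restrictScalars (MvPolynomial (Fin (r + 1)) k)).subtype ψS (n := 0)
      (fun l v hv _ _ => Or.inl ⟨l, by simp, hv⟩)
      (fun l v hv _ _ => Or.inl ⟨l, by simp, lc_mem_piece d (fun c => (hg c).1) hv⟩)
      Subtype.val_injective (LinearMap.ext fun v => Subtype.ext v.2)
      (fun l a ha h => ⟨⟨a, congrArg Subtype.val h⟩, ha, rfl⟩) (fun l a ha => ?_)
      (fun l a _ u hu e => Subtype.ext (smul_torsion (congrArg Subtype.val hu) e))) t) ?_ ?_
    · obtain ⟨v, hv, hva⟩ := hsurj _ a.1 a.2 ha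
      exact ⟨v, hv, Subtype.ext hva⟩
    · refine subsingleton_free d δ' p hi fun c => ?_
      have h1 := Finset.single_le_sum (f := fun c => |(δ' c).1 - d * (δ' c).2|) (fun c _ => abs_nonneg _)
        (Finset.mem_univ c)
      have h2 := le_abs_self ((δ' c).1 - d * (δ' c).2)
      have h3 := le_max_right e' (∑ c, |(δ' c).1 - d * (δ' c).2|)
      rw [mul_sub]
      linarith [(Nat.cast_nonneg i : (0 : ℤ) ≤ i)]
    · exact he' p t (le_trans (by have := le_max_left e' (∑ c, |(δ' c).1 - d * (δ' c).2|); linarith) ht)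

section Powers

variable (f : Fin N → MvPolynomial (Fin (r + 1)) k)

/-- The pieces of `J^p`. -/
def powGr (p i : ℕ) : Submodule k (MvPolynomial (Fin (r + 1)) k) :=
  CohB1.polyGrading r k i ⊓ ((Ideal.span (Set.range f)) ^ p).restrictScalars k

instance gradedSMul_powGr (p : ℕ) : SetLike.GradedSMul (CohB1.polyGrading r k) (powGr f p) where
  smul_mem {_ _ _ _} ha hv := ⟨SetLike.mul_mem_graded ha hv.1, Ideal.mul_mem_left _ _ hv.2⟩

/-- `y ↦ f`. -/
def ev : B k r N →ₐ[k] MvPolynomial (Fin (r + 1)) k := aeval (Sum.elim f X)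

theorem ev_rename (a : MvPolynomial (Fin (r + 1)) k) : ev f (rename Sum.inr a) = a := by
  rw [ev, aeval_rename, Sum.elim_comp_inr, aeval_X_left_apply]

theorem ev_ym (β : Fin N →₀ ℕ) : ev f (ym (k := k) (r := r) β) = β.prod fun j e => f j ^ e := by
  rw [ev, ym, aeval_rename, Sum.elim_comp_inl, aeval_monomial, map_one, one_mul]

theorem ev_mem_std (hf : ∀ j, f j ∈ GrSyz.stdGr k (Fin (r + 1)) d) {δ : ℤ × ℤ} {v : B k r N}
    (hv : v ∈ bg k r N d δ) : ev f v ∈ GrSyz.stdGr k (Fin (r + 1)) δ.1 := by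
  rw [← sum_coef d hv, map_sum]
  refine Submodule.sum_mem _ fun β hβ => ?_
  rw [smul_def, map_mul, ev_rename, ev_ym]
  have hb : (β.prod fun j e => f j ^ e) ∈ GrSyz.stdGr k (Fin (r + 1)) (β.sum fun _ e => e • d) :=
    SetLike.prod_pow_mem_graded (GrSyz.stdGr k (Fin (r + 1))) (fun _ => d) f (fun i => β i) (fun i _ => hf i)
  have := SetLike.mul_mem_graded (coef_mem d hv β) hb
  rwa [show δ.1 - d * δ.2 + (β.sum fun _ e => e • d) = δ.1 by
    rw [← mem_expSet.1 hβ, Finsupp.sum, Finsupp.degree_apply]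
    simp only [nsmul_eq_mul, Nat.cast_sum, Finset.mul_sum]
    rw [Finset.sum_congr rfl fun x _ => mul_comm (d) ((β x : ℤ))]; ring] at this

theorem ev_mem_pow {δ : ℤ × ℤ} {P : ℕ} (hP : δ.2 = P) {v : B k r N} (hv : v ∈ bg k r N d δ) :
    ev f v ∈ Ideal.span (Set.range f) ^ P := by
  rw [← sum_coef d hv, map_sum]
  refine Submodule.sum_mem _ fun β hβ => ?_
  rw [smul_def, map_mul, ev_ym]
  refine Ideal.mul_mem_left _ _ ?_
  have hb : β.degree = P := by have := mem_expSet.1 hβ; omega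
  rw [← hb, Finsupp.degree_apply, ← Finset.prod_pow_eq_pow_sum, Finsupp.prod]
  exact Ideal.prod_mem_prod fun j _ => Ideal.pow_mem_pow (Ideal.subset_span (Set.mem_range_self j)) _

/-- Elements all whose homogeneous components lift to `y`-degree `P`. -/
def liftIdeal (hf : ∀ j, f j ∈ GrSyz.stdGr k (Fin (r + 1)) d) (P : ℕ) :
    Ideal (MvPolynomial (Fin (r + 1)) k) where
  carrier := {a | ∀ m : ℤ, ∃ v ∈ bg k r N d (m, (P : ℤ)),
    ev f v = (decompose (GrSyz.stdGr k (Fin (r + 1))) a m : MvPolynomial (Fin (r + 1)) k)}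
  zero_mem' m := ⟨0, Submodule.zero_mem _, by simp⟩
  add_mem' {a b} ha hb m := by
    obtain ⟨v, hv, hv'⟩ := ha m
    obtain ⟨w, hw, hw'⟩ := hb m
    exact ⟨v + w, Submodule.add_mem _ hv hw, by simp [hv', hw', decompose_add]⟩
  smul_mem' c a ha m := by
    classical
    choose v hv hv' using fun e => ha (m - e)
    refine ⟨∑ e ∈ (decompose (GrSyz.stdGr k (Fin (r + 1))) c).support,
      rename Sum.inr (decompose (GrSyz.stdGr k (Fin (r + 1))) c e : MvPolynomial (Fin (r + 1)) k) * v e, ?_, ?_⟩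
    · refine Submodule.sum_mem _ fun e _ => ?_
      rcases PolyReg.mem_std_cases (decompose (GrSyz.stdGr k (Fin (r + 1))) c e).2 with ⟨i, hi, hm⟩ | h0
      · have := SetLike.mul_mem_graded (rename_mem (N := N) d hm) (hv e)
        rwa [show ((i : ℤ), (0 : ℤ)) + (m - e, (P : ℤ)) = (m, (P : ℤ)) by ext <;> simp [hi]] at this
      · simp [h0]
    · rw [map_sum]
      conv_rhs => rw [smul_eq_mul, ← sum_support_decompose (GrSyz.stdGr k (Fin (r + 1))) c, Finset.sum_mul,
        decompose_sum, DFinsupp.finsetSum_apply, AddSubmonoidClass.coe_finsetSum]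
      refine Finset.sum_congr rfl fun e _ => ?_
      rw [map_mul, ev_rename, hv', PolyReg.coe_decompose_mul (SetLike.coe_mem _)]

theorem pow_le_lift (hf : ∀ j, f j ∈ GrSyz.stdGr k (Fin (r + 1)) d) :
    ∀ P : ℕ, Ideal.span (Set.range f) ^ P ≤ liftIdeal d f hf P
  | 0 => fun a _ m => by
    rcases PolyReg.mem_std_cases (decompose (GrSyz.stdGr k (Fin (r + 1))) a m).2 with ⟨i, hi, hm⟩ | h0
    · exact ⟨_, by have := rename_mem (N := N) d hm; rwa [hi] at this, ev_rename f _⟩
    · exact ⟨0, Submodule.zero_mem _, by rw [map_zero, h0]⟩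
  | P + 1 => by
    rw [pow_succ', Ideal.mul_le]
    intro x hx y hy
    induction hx using Submodule.span_induction with
    | mem x hx =>
      obtain ⟨j, rfl⟩ := hx
      intro m
      obtain ⟨v, hv, hv'⟩ := pow_le_lift hf P hy (m - d)
      refine ⟨X (Sum.inl j) * v, ?_, ?_⟩
      · have := SetLike.mul_mem_graded (isWeightedHomogeneous_X k (wt r N d) (Sum.inl j)) hv
        rwa [show wt r N d (Sum.inl j) + (m - d, (P : ℤ)) = (m, ((P + 1 : ℕ) : ℤ)) by
          ext <;> simp [wt]; ring] at this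
      · rw [map_mul, hv', PolyReg.coe_decompose_mul (hf j)]
        congr 1
        simp [ev]
    | zero => rw [zero_mul]; exact Submodule.zero_mem _
    | add a b _ _ ha hb => rw [add_mul]; exact Submodule.add_mem _ ha hb
    | smul c a _ ha => rw [smul_eq_mul, mul_assoc]; exact Ideal.mul_mem_left _ _ ha

/-- `ev` on the rank one free module, linear over `S`. -/
def ev₁ : (Fin 1 → B k r N) →ₗ[MvPolynomial (Fin (r + 1)) k] MvPolynomial (Fin (r + 1)) k where
  toFun v := ev f (v 0)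
  map_add' v w := map_add (ev f) _ _
  map_smul' a v := by
    change ev f (rename Sum.inr a * v 0) = a * ev f (v 0)
    rw [map_mul, ev_rename]

theorem exists_bound (hf : ∀ j, f j ∈ GrSyz.stdGr k (Fin (r + 1)) d) :
    ∃ e : ℤ, ∀ (p i : ℕ), 1 ≤ i → i ≤ r → ∀ t : ℤ, d * p + e ≤ t →
      Subsingleton (Coh.HH (CohB1.ProjSpace r k)
        (CohB1.tensorMod (GrTilde.tilde (CohB1.polyGrading r k) (powGr f p) 0) (tw r k t)) i) := by
  haveI : IsProper (CohB1.ProjSpace r k ↘ Spec (CommRingCat.of k)) := ProjSpace.Basic.isProper_toSpec r k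
  obtain ⟨Nd, hNd⟩ := Snapper.DimBound.exists_dim_bound k (CohB1.ProjSpace r k)
  haveI := Curves.GlobalSections.isNoetherian_of_proper k (CohB1.ProjSpace r k)
  let K₀ : Submodule (B k r N) (Fin 1 → B k r N) :=
    Submodule.comap (LinearMap.proj 0) (RingHom.ker (ev f))
  choose e he using fun i : ℕ => exists_bound_sub (k := k) (r := r) (N := N) d
    (fun M i hi => Snapper.Chi.subsingleton_HH_of_lt hNd M hi) (Nd + 1) (i + 1) (by omega) (by omega) 1 0 K₀
  refine ⟨∑ i ∈ Finset.range (r + 1), |e i|, fun p i hi hir t ht => ?_⟩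
  have hbd : e i ≤ ∑ i ∈ Finset.range (r + 1), |e i| := (le_abs_self _).trans
    (Finset.single_le_sum (f := fun i => |e i|) (fun _ _ => abs_nonneg _) (Finset.mem_range.2 (by omega)))
  have hnn : 0 ≤ ∑ i ∈ Finset.range (r + 1), |e i| := Finset.sum_nonneg fun _ _ => abs_nonneg _
  refine ProjKoszul.Reg2.sub₃ k (shortExact_tw (shortExact_tilde (𝒩 := grS d (0 : Fin 1 → ℤ × ℤ) K₀ (p : ℤ))
    (ℳ := frS d (0 : Fin 1 → ℤ × ℤ) (p : ℤ)) (ℒ := powGr f p)
    (K₀.restrictScalars (MvPolynomial (Fin (r + 1)) k)).subtype (ev₁ f) (n := 0)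
    (fun l v hv _ _ => Or.inl ⟨l, by simp, hv⟩) (fun l v hv _ _ => ?_)
    Subtype.val_injective (LinearMap.ext fun v => v.2)
    (fun l a ha h => ⟨⟨a, h⟩, ha, rfl⟩) (fun l a ha => ?_)
    (fun l a _ u hu e => ?_)) t) ?_ (he i p t (by linarith))
  · have hv0 := (mem_piece d).1 hv 0
    exact Or.inl ⟨l, by simp, PolyReg.mem_std_natCast.1 (show ev f (v 0) ∈ _ by simpa using ev_mem_std d f hf hv0),
      ev_mem_pow d f (by simp) hv0⟩
  · obtain ⟨v, hv, hva⟩ := pow_le_lift d f hf p ha.2 (l : ℤ)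
    refine ⟨fun _ => v, (mem_piece d).2 fun b => by simpa using hv, ?_⟩
    exact hva.trans (decompose_of_mem_same _ (PolyReg.mem_std_natCast.2 ha.1))
  · rcases smul_eq_zero.1 hu with h | h
    · simp [h]
    · rw [h, smul_zero]
  · exact subsingleton_free d 0 p hi fun b => by
      simp only [Pi.zero_apply, Prod.fst_zero, Prod.snd_zero, sub_zero, zero_add]
      linarith [(Nat.cast_nonneg i : (0 : ℤ) ≤ i)]

end Powers

end Groth.Agent.Lib.ReesReg.Bound
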