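import Groth.Agent.Lib.ProjTildeExact.PolyReg

/-!
# Dehomogenisation `S → Γ(W, O)` on an open inside a standard chart
-/

universe u

open CategoryTheory AlgebraicGeometry TopologicalSpace Opposite MvPolynomial

noncomputable section

namespace Groth.Agent.Lib.ReesReg.Dehom

open Groth.Agent.Lib

variable {k : Type u} [Field k] {n : ℕ}

/-- The standard chart. -/
abbrev U (i : Fin (n + 1)) : (CohB1.ProjSpace n k).Opens :=
  Proj.basicOpen (CohB1.polyGrading n k) (X i : MvPolynomial (Fin (n + 1)) k)

theorem exists_chart (x : CohB1.ProjSpace n k) : ∃ i, x ∈ U (k := k) (n := n) i := by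
  obtain ⟨j, hj⟩ := Opens.mem_iSup.mp ((ProjCoh.Sections.iSup_cover (n := n) (R := k)).ge (Set.mem_univ x))
  exact ⟨j.down, hj⟩

/-- `S → S_{(x_i)}`. -/
def toAway (i : Fin (n + 1)) : MvPolynomial (Fin (n + 1)) k →+*
    HomogeneousLocalization.Away (CohB1.polyGrading n k) (X i : MvPolynomial (Fin (n + 1)) k) :=
  eval₂Hom ((HomogeneousLocalization.fromZeroRingHom (CohB1.polyGrading n k) _).comp
      (algebraMap k (CohB1.polyGrading n k 0)))
    fun l => HomogeneousLocalization.Away.mk (CohB1.polyGrading n k)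
      (ProjSpace.Charts.X_mem_one i) 1 (X l) (by rw [one_smul]; exact ProjSpace.Charts.X_mem_one l)

/-- `S → Γ(W, O)` for `W` inside `D₊(x_i)`. -/
def dh (i : Fin (n + 1)) (W : (CohB1.ProjSpace n k).Opens) (hW : W ≤ U i) :
    MvPolynomial (Fin (n + 1)) k →+* Γ(CohB1.ProjSpace n k, W) :=
  (((CohB1.ProjSpace n k).presheaf.map (homOfLE hW).op).hom).comp
    ((Proj.awayToSection (CohB1.polyGrading n k) (X i : MvPolynomial (Fin (n + 1)) k)).hom.comp (toAway i))

theorem val_toAway (i : Fin (n + 1)) {e : ℕ} {a : MvPolynomial (Fin (n + 1)) k}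
    (ha : a ∈ CohB1.polyGrading n k e) :
    (toAway i a).val = Localization.mk a (⟨(X i : MvPolynomial (Fin (n + 1)) k) ^ e, pow_mem (Submonoid.mem_powers _) e⟩ :
      Submonoid.powers (X i : MvPolynomial (Fin (n + 1)) k)) := by
  let L := Localization (Submonoid.powers (X i : MvPolynomial (Fin (n + 1)) k))
  let v : HomogeneousLocalization.Away (CohB1.polyGrading n k) (X i : MvPolynomial (Fin (n + 1)) k) →+* L :=
    { toFun := HomogeneousLocalization.val
      map_one' := HomogeneousLocalization.val_one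
      map_mul' := HomogeneousLocalization.val_mul
      map_zero' := HomogeneousLocalization.val_zero
      map_add' := HomogeneousLocalization.val_add }
  let al := algebraMap (MvPolynomial (Fin (n + 1)) k) L
  suffices h : v (toAway i a) * al (X i) ^ e = al a by
    rw [Localization.mk_eq_mk', IsLocalization.eq_mk'_iff_mul_eq, map_pow]
    exact h
  have hX : ∀ l, v (toAway i (X l)) * al (X i) = al (X l) := fun l => by
    rw [toAway, eval₂Hom_X']
    change (HomogeneousLocalization.Away.mk (CohB1.polyGrading n k) (ProjSpace.Charts.X_mem_one i) 1 (X l)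
      (by rw [one_smul]; exact ProjSpace.Charts.X_mem_one l)).val * _ = _
    rw [HomogeneousLocalization.Away.val_mk, Localization.mk_eq_mk']
    refine Eq.trans ?_ (IsLocalization.mk'_spec L (X l) (⟨(X i : MvPolynomial (Fin (n + 1)) k) ^ 1,
      pow_mem (Submonoid.mem_powers _) 1⟩ : Submonoid.powers (X i : MvPolynomial (Fin (n + 1)) k)))
    exact congrArg (IsLocalization.mk' L (X l) _ * al ·) (pow_one _).symm
  have hC : ∀ c : k, v (toAway i (C c)) = al (C c) := fun c => by
    rw [toAway, eval₂Hom_C]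
    change Localization.mk (C c) 1 = _
    rw [Localization.mk_one_eq_algebraMap]
  rw [a.as_sum, map_sum, map_sum, Finset.sum_mul, map_sum]
  refine Finset.sum_congr rfl fun s hs => ?_
  have hse : s.degree = e := by
    rw [Finsupp.degree_eq_weight_one]
    exact (MvPolynomial.mem_homogeneousSubmodule _ _).1 ha (mem_support_iff.1 hs)
  rw [monomial_eq, map_mul, map_mul, hC, map_mul, mul_assoc, ← hse, Finsupp.degree_apply,
    ← Finset.prod_pow_eq_pow_sum, Finsupp.prod, map_prod, map_prod, map_prod, ← Finset.prod_mul_distrib]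
  congr 1
  refine Finset.prod_congr rfl fun l _ => ?_
  rw [map_pow, map_pow, map_pow, ← mul_pow, hX]

theorem val_dh (i : Fin (n + 1)) {W : (CohB1.ProjSpace n k).Opens} (hW : W ≤ U i) {e : ℕ}
    {a : MvPolynomial (Fin (n + 1)) k} (ha : a ∈ CohB1.polyGrading n k e) (x : W)
    (hx : (X i : MvPolynomial (Fin (n + 1)) k) ^ e ∉ x.1.asHomogeneousIdeal) :
    ((dh i W hW a).1 x).val = Localization.mk a ⟨(X i : MvPolynomial (Fin (n + 1)) k) ^ e, hx⟩ := by
  refine (ProjectiveSpectrum.Proj.awayToSection_apply (CohB1.polyGrading n k)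
    (X i : MvPolynomial (Fin (n + 1)) k) (toAway i a) ⟨x.1, hW x.2⟩).trans ?_
  rw [val_toAway i ha, Localization.mk_eq_mk', IsLocalization.map_mk', Localization.mk_eq_mk']
  rfl

end Groth.Agent.Lib.ReesReg.Dehom
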