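import Groth.Agent.Lib.ReesReg.Dehom
import Groth.Agent.Lib.ClSub.Sections
import Groth.Agent.Lib.ProjCoh.Mul
import Groth.Agent.Lib.TensorMod.Colimit
import Groth.Prelude.Def_Curv2

/-!
# A twist `I(d)` generated by sections: `I` comes from forms of degree `d`
-/

universe u

open CategoryTheory CategoryTheory.Limits AlgebraicGeometry TopologicalSpace Opposite MvPolynomial

noncomputable section

namespace Groth.Agent.Lib.ReesReg.Forms

open Groth.Agent.Lib Groth.Agent.Lib.ProjCoh.Coherent Groth.Agent.Lib.ProjCoh.Sections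
  Groth.Agent.Lib.ProjTildeExact Groth.Agent.Lib.ReesReg.Dehom

variable {k : Type u} [Field k] {n : ℕ}

/-- A global section of `A(d)~`, `n ≥ 1`, is a form. -/
theorem exists_form (hn : 1 ≤ n) {d : ℤ} (g : Lau n k) (hg : ProjCoh.Mul.Glob d g) :
    ∃ F : S n k, F ∈ GrSyz.stdGr k (Fin (n + 1)) d ∧ toL F = g := by
  classical
  let N : (Fin (n + 1) →₀ ℤ) → (Fin (n + 1) →₀ ℕ) := fun e => e.mapRange Int.toNat rfl
  have hpos : ∀ e ∈ g.coeff.support, castE (N e) = e ∧ ∑ l, e l = d := fun e he => by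
    rw [Finsupp.mem_support_iff] at he
    refine ⟨Finsupp.ext fun l => ?_, (hg e he ⟨0⟩).1⟩
    obtain ⟨l', hl'⟩ : ∃ l' : Fin (n + 1), l' ≠ l := by
      haveI : Nontrivial (Fin (n + 1)) := Fin.nontrivial_iff_two_le.2 (by omega)
      exact exists_ne l
    have : 0 ≤ e l := not_lt.1 fun hlt => by
      obtain ⟨_, h⟩ := (hg e he ⟨l'⟩).2 l hlt
      exact hl' h
    simpa [castE, N] using this
  refine ⟨∑ e ∈ g.coeff.support, monomial (N e) (g.coeff e), Submodule.sum_mem _ fun e he => ?_, ?_⟩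
  · rw [GrSyz.mem_stdGr_iff]
    refine isWeightedHomogeneous_monomial _ _ _ ?_
    obtain ⟨h1, h2⟩ := hpos e he
    rw [PolyReg.weight_one, ← h2, Finsupp.degree_eq_sum]
    conv_rhs => rw [← h1]
    simp [castE]
  · rw [map_sum]
    refine (Finset.sum_congr rfl fun e he => ?_).trans (AddMonoidAlgebra.sum_coeff_single g)
    rw [toL_monomial, (hpos e he).1]

theorem val_globSec {d : ℤ} (g : Lau n k) (hg : ProjCoh.Mul.Glob d g) (F : S n k)
    (hF : F ∈ GrSyz.stdGr k (Fin (n + 1)) d) (hFg : toL F = g)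
    (x : (⊤ : (CohB1.ProjSpace n k).Opens)) :
    ProjTilde.Frac.val (ProjCoh.Mul.globSec g hg) x = LocalizedModule.mk F 1 := by
  let j := ProjCoh.Mul.chartOf x.1
  have hdeg : ProjTilde.Frac.Deg (CohB1.polyGrading n k) (((0 : ℕ) : ℤ) + d) F := by
    rcases PolyReg.mem_std_cases hF with ⟨i, hi, hm⟩ | h0
    · exact ProjTilde.Frac.Deg.of_mem hm (Or.inl (by omega))
    · rw [h0]; exact ProjTilde.Frac.Deg.zero _
  have h1 : Proj.basicOpen (CohB1.polyGrading n k) (1 : S n k) = ⊤ := Proj.basicOpen_one _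
  let τ : Sect n k d (Cech.Complex.inter (cover n k) (ProjCoh.Mul.one1 j)) :=
    ProjTilde.Frac.fracSec _ (SetLike.one_mem_graded _) hdeg (le_top.trans_eq h1.symm)
  have hτ : ProjCoh.Mul.piece g hg j = τ := by
    refine coef_injective (ProjCoh.Mul.one1 j) ((ProjCoh.Mul.coef_piece g hg j).trans ?_)
    rw [coef_eq (ProjCoh.Mul.one1 j) (w := 0) (m := F) ⟨by simpa using hdeg,
      le_top.trans_eq (by rw [show mono k (0 : Fin (n + 1) →₀ ℕ) = 1 by simp [mono]]; exact h1.symm),
      fun y hy => by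
        refine (ProjTilde.Frac.val_fracSec _ _ _ _ y).trans ?_
        congr 1⟩]
    rw [laur, map_zero, neg_zero, zmono_zero, mul_one, hFg]
  change ProjTilde.Frac.val (ProjCoh.Mul.piece g hg j) ⟨x.1, ProjCoh.Mul.mem_chartOf x.1⟩ = _
  rw [hτ]
  exact (ProjTilde.Frac.val_fracSec _ _ _ _ _).trans rfl

/-- Multiplication by a form, on values. -/
theorem val_mul {a b : ℤ} (g : Lau n k) (hg : ProjCoh.Mul.Glob (b - a) g) (F : S n k)
    (hF : F ∈ GrSyz.stdGr k (Fin (n + 1)) (b - a)) (hFg : toL F = g) (W : (CohB1.ProjSpace n k).Opens)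
    (σ : Sect n k a W) (x : W) :
    ProjTilde.Frac.val ((ProjCoh.Mul.mul a b g hg).app W σ : Sect n k b W) x =
      (Localization.mk F 1 : Twist.Loc (CohB1.polyGrading n k) x.1) • ProjTilde.Frac.val σ x := by
  have h := val_globSec g hg F hF hFg ⟨x.1, trivial⟩
  exact congrArg (fun c : Twist.Loc (CohB1.polyGrading n k) x.1 => c • ProjTilde.Frac.val σ x) h

/-- The ideal of a point of the localization. -/
abbrev InJ (J : Ideal (S n k)) (W : (CohB1.ProjSpace n k).Opens) (s : Γ(CohB1.ProjSpace n k, W)) : Prop :=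
  ∀ x : W, (s.1 x).val ∈ J.map (algebraMap (S n k) (Twist.Loc (CohB1.polyGrading n k) x.1))

theorem mem_map_of_locMap_mkQ {J : Ideal (S n k)} (x : ProjectiveSpectrum (CohB1.polyGrading n k))
    (z : GrTilde.LocMod (CohB1.polyGrading n k) (M := S n k) x)
    (h : locMap (Submodule.mkQ J) x z = 0) :
    (z : Twist.Loc (CohB1.polyGrading n k) x) ∈ J.map (algebraMap (S n k) (Twist.Loc (CohB1.polyGrading n k) x)) := by
  induction z using LocalizedModule.induction_on with
  | h a t =>
    obtain ⟨w, hw, hwa⟩ := exists_kill (Submodule.mkQ J) h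
    rw [← map_smul, Submodule.mkQ_apply, Submodule.Quotient.mk_eq_zero] at hwa
    change Localization.mk a t ∈ _
    rw [Localization.mk_eq_mk']
    exact (IsLocalization.mk'_mem_map_algebraMap_iff x.asHomogeneousIdeal.toIdeal.primeCompl _ _ _ _).2
      ⟨w, hw, hwa⟩

/-- Generators of `I` from generators of `I(d)`. -/
theorem exists_forms (hn : 1 ≤ n) (I : (CohB1.ProjSpace n k).IdealSheafData) (d : ℤ)
    (hd : Curv2.IsGloballyGenerated (CohB1.tensorMod (ClSub.idealMod I) (Twist.twistProjSpace n k d))) :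
    ∃ (N : ℕ) (f : Fin N → S n k), (∀ j, f j ∈ GrSyz.stdGr k (Fin (n + 1)) d) ∧
      (∀ (W : (CohB1.ProjSpace n k).affineOpens), ∀ s ∈ I.ideal W, InJ (Ideal.span (Set.range f)) W.1 s) ∧
      (∀ (i : Fin (n + 1)) (W : (CohB1.ProjSpace n k).affineOpens) (hW : W.1 ≤ U i),
        ∀ j, dh i W.1 hW (f j) ∈ I.ideal W) := by
  classical
  obtain ⟨ι, p, hp⟩ := hd
  let i₀ : (TensorMod.Basic.tensorBy (tw n k (-d))).obj
      (∐ fun _ : ι => Coh.structureModule (CohB1.ProjSpace n k)) ≅ ∐ fun _ : ι => TS n k (-d) :=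
    PreservesCoproduct.iso (TensorMod.Basic.tensorBy (tw n k (-d))) _ ≪≫
      Limits.Sigma.mapIso fun _ => TensorMod.Basic.leftUnit (tw n k (-d)) ≪≫ twIso (-d)
  obtain ⟨r, hr⟩ := @exists_epi_of_twist _ _ _ _ _ _ (twCancel d (-d) (by omega)) p hp i₀
  let unit : Coh.structureModule (CohB1.ProjSpace n k) ⟶ TS n k 0 :=
    (ProjTilde.Basic.unitIsoTilde (𝒜 := CohB1.polyGrading n k)).hom
  let g : ι → (TS n k (-d) ⟶ TS n k 0) := fun j =>
    Limits.Sigma.ι (fun _ : ι => TS n k (-d)) j ≫ r ≫ ClSub.idealModι I ≫ unit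
  choose l hl hgl using fun j => ProjCoh.Mul.exists_eq_mul (g j)
  choose F hF hFl using fun j => exists_form hn (l j) (hl j)
  obtain ⟨t, ht, htspan⟩ := Submodule.fg_span_iff_fg_span_finset_subset (Set.range F) |>.1
    (IsNoetherian.noetherian (Ideal.span (Set.range F)))
  choose idx hidx using fun c : t => ht c.2
  let f : Fin t.card → S n k := fun c => F (idx (t.equivFin.symm c))
  have hspan : ∀ j, F j ∈ Ideal.span (Set.range f) := fun j => by
    have h1 : F j ∈ Submodule.span (S n k) (t : Set (S n k)) := by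
      rw [← htspan]; exact Submodule.subset_span ⟨j, rfl⟩
    refine Submodule.span_mono ?_ h1
    intro a ha
    exact ⟨t.equivFin ⟨a, ha⟩, by simp only [f, Equiv.symm_apply_apply]; exact hidx ⟨a, ha⟩⟩
  refine ⟨t.card, f, fun c => ?_, fun W s hs => ?_, fun i W hW c => ?_⟩
  · simpa using hF (idx (t.equivFin.symm c))
  · obtain ⟨m, hm⟩ := (ClSub.Sections.mem_range_idealModι_app_affine_iff I W s).2 hs
    let J := Ideal.span (Set.range f)
    let 𝒬 : ℕ → Submodule k (S n k ⧸ J) := fun _ => ⊤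
    haveI : SetLike.GradedSMul (CohB1.polyGrading n k) 𝒬 := ⟨fun {_ _ _ _} _ _ => trivial⟩
    let T : (CohB1.ProjSpace n k).Modules := GrTilde.tilde (CohB1.polyGrading n k) 𝒬 0
    let q : TS n k 0 ⟶ T :=
      tildeMap (Submodule.mkQ J) (c := 0) (fun l a _ _ _ => Or.inl ⟨l, by simp, Submodule.mem_top⟩) (by simp)
    have hz : ClSub.idealModι I ≫ unit ≫ q = 0 := by
      rw [← cancel_epi r, comp_zero]
      refine Limits.Sigma.hom_ext _ _ fun j => ?_
      rw [comp_zero]
      have : Limits.Sigma.ι (fun _ : ι => TS n k (-d)) j ≫ r ≫ ClSub.idealModι I ≫ unit ≫ q = g j ≫ q := by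
        simp only [g, Category.assoc]
      rw [this, hgl j]
      refine tilde_hom_ext fun V σ x => ?_
      change locMap (Submodule.mkQ J) x.1 (ProjTilde.Frac.val
        ((ProjCoh.Mul.mul (-d) 0 (l j) (hl j)).app V σ : Sect n k 0 V) x) = 0
      refine ((congrArg (locMap (Submodule.mkQ J) x.1) (val_mul (l j) (hl j) (F j) (hF j) (hFl j) V σ x)).trans
        (locMap_smul (Submodule.mkQ J) _ _ _)).trans ?_
      generalize locMap (Submodule.mkQ J) _ (ProjTilde.Frac.val (σ : Sect n k (-d) V) x) = z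
      induction z using LocalizedModule.induction_on with
      | h a u =>
        induction a using Submodule.Quotient.induction_on with
        | _ a =>
          rw [LocalizedModule.mk_smul_mk, ← Submodule.Quotient.mk_smul, smul_eq_mul,
            (Submodule.Quotient.mk_eq_zero J).2 (Ideal.mul_mem_right _ _ (hspan j)), LocalizedModule.zero_mk]
    intro x
    refine mem_map_of_locMap_mkQ x.1 (ProjTilde.Frac.val (ProjTilde.Basic.ofFun s) x) ?_
    have h2 := congrArg (fun φ : ClSub.idealMod I ⟶ T =>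
      ((φ.app W.1 m : GrTilde.sect (CohB1.polyGrading n k) 𝒬 0 (op W.1)).1 x).1) hz
    refine Eq.trans ?_ h2
    change _ = locMap (Submodule.mkQ J) x.1 (ProjTilde.Frac.val
      (ProjTilde.Basic.ofFun ((ClSub.idealModι I).app W.1 m)) x)
    rw [hm]
  · rcases PolyReg.mem_std_cases (hF (idx (t.equivFin.symm c))) with ⟨e, he, hm⟩ | h0
    swap
    · simp only [f, h0, map_zero]; exact Submodule.zero_mem _
    · let j := idx (t.equivFin.symm c)
      have hx : W.1 ≤ Proj.basicOpen (CohB1.polyGrading n k) ((X i : S n k) ^ e) := fun x hx =>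
        fun h => hW hx (x.isPrime.mem_of_pow_mem e h)
      let σ : Sect n k (-d) W.1 := ProjTilde.Frac.fracSec W.1 (a := (1 : S n k))
        (SetLike.pow_mem_graded e (ProjSpace.Charts.X_mem_one i))
        (ProjTilde.Frac.Deg.of_mem (SetLike.one_mem_graded _) (Or.inl (by rw [smul_eq_mul, mul_one]; omega))) hx
      refine (ClSub.Sections.mem_range_idealModι_app_affine_iff I W _).1
        ⟨(Limits.Sigma.ι (fun _ : ι => TS n k (-d)) j ≫ r).app W.1 σ, ?_⟩
      apply ProjTilde.Basic.ofFun_injective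
      refine ProjTilde.Frac.sect_ext fun x => ?_
      have h3 : ProjTilde.Frac.val ((g j).app W.1 σ : Sect n k 0 W.1) x =
          (Localization.mk (F j) 1 : Twist.Loc (CohB1.polyGrading n k) x.1) • ProjTilde.Frac.val σ x := by
        rw [hgl j]
        exact val_mul (l j) (hl j) (F j) (hF j) (hFl j) W.1 σ x
      refine Eq.trans (Eq.trans rfl h3) ?_
      refine Eq.trans ?_ (val_dh i hW hm x (hx x.2)).symm
      refine ((congrArg (fun z => (Localization.mk (F j) 1 : Twist.Loc (CohB1.polyGrading n k) x.1) • z)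
        (ProjTilde.Frac.val_fracSec _ _ _ _ x)).trans (LocalizedModule.mk_smul_mk _ _ _ _)).trans ?_
      rw [smul_eq_mul, mul_one, one_mul]
      rfl

end Groth.Agent.Lib.ReesReg.Forms
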