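import Groth.Agent.Lib.ProjTildeExact.PolyReg

/-!
# The sheaf of a graded module with a finite family of graded coordinates has no higher cohomology
-/

universe u

open CategoryTheory CategoryTheory.Limits AlgebraicGeometry TopologicalSpace Opposite MvPolynomial

noncomputable section

namespace Groth.Agent.Lib.ReesReg.Free

open Groth.Agent.Lib Groth.Agent.Lib.ProjCoh.Coherent Groth.Agent.Lib.ProjCoh.Sections
  Groth.Agent.Lib.ProjTildeExact

variable {k : Type u} [Field k] {r : ℕ} {M : Type u} [AddCommGroup M] [Module k M]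
  [Module (MvPolynomial (Fin (r + 1)) k) M] {ℳ : ℕ → Submodule k M}
  [SetLike.GradedSMul (CohB1.polyGrading r k) ℳ]

/-- If the pieces `ℳ i` have coordinates `π b` of degrees `deg b`, with all `-deg b + t ≥ -i`, then
`H^i(ℳ~(t)) = 0` for `i ≥ 1`. -/
theorem subsingleton_of_coords {ι : Type} [Fintype ι] (deg : ι → ℤ)
    (π : ι → M →ₗ[MvPolynomial (Fin (r + 1)) k] MvPolynomial (Fin (r + 1)) k)
    (σ : ι → MvPolynomial (Fin (r + 1)) k →ₗ[MvPolynomial (Fin (r + 1)) k] M)
    (hπ : ∀ b (i : ℕ), ∀ a ∈ ℳ i, π b a ∈ GrSyz.stdGr k (Fin (r + 1)) ((i : ℤ) - deg b))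
    (hσ : ∀ b (j i : ℕ), (j : ℤ) = i + deg b → ∀ p ∈ CohB1.polyGrading r k i, σ b p ∈ ℳ j)
    (hsum : ∀ (i : ℕ), ∀ a ∈ ℳ i, ∑ b, σ b (π b a) = a)
    {t : ℤ} {i : ℕ} (hi : 1 ≤ i) (h : ∀ b, -(i : ℤ) ≤ -deg b + t) :
    Subsingleton (Coh.HH (CohB1.ProjSpace r k)
      (CohB1.tensorMod (GrTilde.tilde (CohB1.polyGrading r k) ℳ 0) (tw r k t)) i) := by
  let pr : ∀ b, GrTilde.tilde (CohB1.polyGrading r k) ℳ 0 ⟶ TS r k (-deg b) := fun b =>
    tildeMap (π b) (c := -deg b)
      (fun l a ha _ _ => (PolyReg.mem_std_cases (hπ b l a ha)).imp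
        (fun ⟨i', h, hm⟩ => ⟨i', by omega, hm⟩) id) (by ring)
  let sg : ∀ b, TS r k (-deg b) ⟶ GrTilde.tilde (CohB1.polyGrading r k) ℳ 0 := fun b =>
    tildeMap (σ b) (c := deg b)
      (fun l a ha j hj => Or.inl ⟨j, by omega, hσ b j l (by omega) a ha⟩) (by ring)
  have key : ∑ b, pr b ≫ sg b = 𝟙 _ := by
    refine tilde_hom_ext fun U τ x => (PolyReg.tilde_app_add _ _ U τ x).trans ?_
    suffices H : ∀ (y : ProjectiveSpectrum (CohB1.polyGrading r k)),
        ∀ z ∈ GrTilde.tildeAt (CohB1.polyGrading r k) ℳ 0 y,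
        ∑ b, locMap (σ b) y (locMap (π b) y z) = z from H x.1 _ ((τ : GrTilde.sect _ ℳ 0 (op U)).1 x).2
    intro y z hz
    induction hz using Submodule.span_induction with
    | mem z h =>
      obtain ⟨a', j, a, s, hs, hij, rfl⟩ := h
      refine (Finset.sum_congr rfl fun b _ => ((congrArg _ (locMap_mk _ y a.1 _)).trans
        (locMap_mk _ y _ _)).trans (IsLocalizedModule.mk_eq_mk' _ _)).trans ?_
      rw [IsLocalizedModule.mk_eq_mk']
      refine (map_sum (AddMonoidHom.mk' (fun a => IsLocalizedModule.mk'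
        (LocalizedModule.mkLinearMap y.asHomogeneousIdeal.toIdeal.primeCompl M) a _)
        fun a b => IsLocalizedModule.mk'_add _ a b _) _ _).symm.trans ?_
      exact congrArg (fun a => IsLocalizedModule.mk'
        (LocalizedModule.mkLinearMap y.asHomogeneousIdeal.toIdeal.primeCompl M) a _) (hsum a' a.1 a.2)
    | zero => simp
    | add p q _ _ hp hq => simp only [map_add, Finset.sum_add_distrib, hp, hq]
    | smul c q _ hq =>
      simp only [GrTilde.a0_smul_def, locMap_smul]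
      rw [← Finset.smul_sum, hq]
  rw [← ProjKoszul.Chase.isZero_cohFun_iff k, IsZero.iff_id_eq_zero]
  let G := TensorMod.Basic.tensorBy (tw r k t) ⋙ ProjKoszul.Chase.cohFun (X := CohB1.ProjSpace r k) k i
  let P : (CohB1.ProjSpace r k).Modules := GrTilde.tilde (CohB1.polyGrading r k) ℳ 0
  let φ : ι → (P ⟶ P) := fun b => pr b ≫ sg b
  change 𝟙 (G.obj P) = 0
  refine (G.map_id P).symm.trans (((congrArg G.map key).symm.trans (G.map_sum φ Finset.univ)).trans ?_)
  refine Finset.sum_eq_zero fun b _ => ?_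
  have hz : IsZero (G.obj (TS r k (-deg b))) := by
    refine (ProjKoszul.Chase.isZero_cohFun_iff k).2
      (ProjKoszul.Chase.subsingleton_of_iso k (PolyReg.tsTensor _ t).symm ?_)
    by_cases hir : i ≤ r
    · exact ProjCoh.Twist.subsingleton_HH_of_neg_le r k (by have := h b; omega) (by omega)
    · exact ProjCoh.Twist.subsingleton_HH_of_ne r k _ (by omega) (by omega)
  exact (G.map_comp (pr b) (sg b)).trans (by rw [hz.eq_of_tgt (G.map (pr b)) 0, zero_comp])

end Groth.Agent.Lib.ReesReg.Free
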