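import Groth.Agent.Lib.ReesReg.Free
import Mathlib.RingTheory.MvPolynomial.WeightedHomogeneous
import Mathlib.Algebra.MvPolynomial.Equiv

/-!
# The bigraded polynomial ring `S[y]`, with `deg y = (d, 1)`
-/

universe u

open MvPolynomial DirectSum

noncomputable section

namespace Groth.Agent.Lib.ReesReg.Grading

open Groth.Agent.Lib

/-- Evaluating a weighted homogeneous polynomial at homogeneous elements. -/
theorem aeval_mem {R σ M A : Type*} [CommRing R] [CommRing A] [Algebra R A] [AddCommMonoid M]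
    [DecidableEq M] (𝒯 : M → Submodule R A) [SetLike.GradedMonoid 𝒯] (w : σ → M) (g : σ → A)
    (hg : ∀ s, g s ∈ 𝒯 (w s)) {v : MvPolynomial σ R} {m : M} (hv : IsWeightedHomogeneous w v m) :
    aeval g v ∈ 𝒯 m := by
  rw [v.as_sum, map_sum]
  refine Submodule.sum_mem _ fun s hs => ?_
  rw [aeval_monomial, ← hv (mem_support_iff.1 hs), ← Algebra.smul_def]
  refine Submodule.smul_mem _ _ ?_
  rw [Finsupp.weight_apply, Finsupp.prod, Finsupp.sum]
  exact SetLike.prod_pow_mem_graded 𝒯 _ _ (fun i => s i) (fun i _ => hg i)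

variable (k : Type u) [Field k] (r N : ℕ) (d : ℤ)

/-- `S[y₁, …, y_N]` as a polynomial ring over `k`. -/
abbrev B : Type u := MvPolynomial (Fin N ⊕ Fin (r + 1)) k

/-- The bidegrees of the variables. -/
def wt : Fin N ⊕ Fin (r + 1) → ℤ × ℤ := Sum.elim (fun _ => (d, 1)) fun _ => (1, 0)

/-- The pieces. -/
abbrev bg : ℤ × ℤ → Submodule k (B k r N) := weightedHomogeneousSubmodule k (wt r N d)

instance gradedBg : GradedAlgebra (bg k r N d) := weightedGradedAlgebra k (wt r N d)

/-- `B` as an algebra over `S`. -/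
@[instance_reducible] def algS : Algebra (MvPolynomial (Fin (r + 1)) k) (B k r N) :=
  (rename (R := k) (Sum.inr : Fin (r + 1) → Fin N ⊕ Fin (r + 1))).toRingHom.toAlgebra

attribute [local instance] algS

theorem smul_def (a : MvPolynomial (Fin (r + 1)) k) (v : B k r N) : a • v = rename Sum.inr a * v := rfl

instance tower : IsScalarTower k (MvPolynomial (Fin (r + 1)) k) (B k r N) :=
  IsScalarTower.of_algebraMap_eq fun c => (rename_C (Sum.inr : Fin (r + 1) → Fin N ⊕ Fin (r + 1)) c).symm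

variable {k r N}

theorem rename_mem {j : ℕ} {a : MvPolynomial (Fin (r + 1)) k} (ha : a ∈ CohB1.polyGrading r k j) :
    (rename Sum.inr a : B k r N) ∈ bg k r N d ((j : ℤ), 0) := by
  rw [show (rename Sum.inr : MvPolynomial (Fin (r + 1)) k →ₐ[k] B k r N) = aeval (X ∘ Sum.inr) from
    algHom_ext fun i => by simp]
  refine aeval_mem (bg k r N d) (fun _ => ((1 : ℤ), (0 : ℤ))) (X ∘ Sum.inr)
    (fun l => isWeightedHomogeneous_X k (wt r N d) (Sum.inr l)) ?_
  intro s hs
  have h := (MvPolynomial.mem_homogeneousSubmodule _ _).1 ha hs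
  rw [← h, Finsupp.weight_apply, Finsupp.weight_apply, Finsupp.sum, Finsupp.sum]
  ext <;> simp [Prod.fst_sum, Prod.snd_sum]

/-- `y^β`. -/
def ym (β : Fin N →₀ ℕ) : B k r N := rename Sum.inl (monomial β (1 : k))

theorem weight_wt (s : Fin N ⊕ Fin (r + 1) →₀ ℕ) :
    Finsupp.weight (wt r N d) s =
      (d * (∑ j, (s (Sum.inl j) : ℤ)) + ∑ l, (s (Sum.inr l) : ℤ), ∑ j, (s (Sum.inl j) : ℤ)) := by
  rw [Finsupp.weight_apply, Finsupp.sum_fintype _ _ (fun i => by exact zero_smul ℕ _), Fintype.sum_sum_type]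
  ext <;> simp [wt, Prod.fst_sum, Prod.snd_sum, Finset.mul_sum, mul_comm]

/-- The coefficient of `y^β`, linear over `S`. -/
def coef (β : Fin N →₀ ℕ) : B k r N →ₗ[MvPolynomial (Fin (r + 1)) k] MvPolynomial (Fin (r + 1)) k where
  toFun v := coeff β (sumAlgEquiv k (Fin N) (Fin (r + 1)) v)
  map_add' v w := by rw [map_add, coeff_add]
  map_smul' a v := by
    rw [smul_def, map_mul]
    have := DFunLike.congr_fun (sumAlgEquiv_comp_rename_inr (R := k) (S₁ := Fin N) (S₂ := Fin (r + 1))) a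
    simp only [AlgHom.comp_apply, IsScalarTower.coe_toAlgHom', MvPolynomial.algebraMap_eq] at this
    erw [this]
    rw [coeff_C_mul]
    rfl

theorem coeff_coef (β : Fin N →₀ ℕ) (α : Fin (r + 1) →₀ ℕ) (v : B k r N) :
    coeff α (coef β v) = coeff (Finsupp.sumFinsuppEquivProdFinsupp.symm (β, α)) v := by
  simp [coef, sumAlgEquiv, coeff, AddMonoidAlgebra.curryAlgEquiv, AddMonoidAlgebra.curryRingEquiv, AddMonoidAlgebra.curryAddEquiv]

theorem coef_mem {δ : ℤ × ℤ} {v : B k r N} (hv : v ∈ bg k r N d δ) (β : Fin N →₀ ℕ) :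
    coef β v ∈ GrSyz.stdGr k (Fin (r + 1)) (δ.1 - d * δ.2) := by
  rw [GrSyz.mem_stdGr_iff]
  intro α hα
  rw [coeff_coef] at hα
  have := hv hα
  rw [weight_wt] at this
  rw [ProjTildeExact.PolyReg.weight_one, Finsupp.degree_eq_sum, ← this]
  simp

theorem coef_eq_zero {δ : ℤ × ℤ} {v : B k r N} (hv : v ∈ bg k r N d δ) (β : Fin N →₀ ℕ)
    (hβ : (β.degree : ℤ) ≠ δ.2) : coef β v = 0 := by
  refine MvPolynomial.ext _ _ fun α => ?_
  rw [coeff_coef, coeff_zero]
  by_contra h
  have := hv h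
  rw [weight_wt] at this
  apply hβ
  rw [← this, Finsupp.degree_eq_sum]
  simp

theorem ym_mem (β : Fin N →₀ ℕ) : ym (k := k) (r := r) β ∈ bg k r N d (d * β.degree, (β.degree : ℤ)) := by
  rw [ym, rename_monomial]
  refine isWeightedHomogeneous_monomial _ _ _ ?_
  rw [weight_wt, Finsupp.degree_eq_sum]
  simp [Finsupp.mapDomain_apply Sum.inl_injective, Finsupp.mapDomain_of_notMem_range]

/-- The finitely many exponents of degree `P`. -/
def expSet (N : ℕ) (P : ℤ) : Finset (Fin N →₀ ℕ) :=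
  (Finset.univ.finsuppAntidiag P.toNat).filter fun β => (β.degree : ℤ) = P

theorem mem_expSet {P : ℤ} {β : Fin N →₀ ℕ} : β ∈ expSet N P ↔ (β.degree : ℤ) = P := by
  rw [expSet, Finset.mem_filter, Finset.mem_finsuppAntidiag]
  refine ⟨And.right, fun h => ⟨⟨?_, Finset.subset_univ _⟩, h⟩⟩
  rw [← h, Int.toNat_natCast, Finsupp.degree_eq_sum]

attribute [irreducible] expSet

theorem sum_coef {δ : ℤ × ℤ} {v : B k r N} (hv : v ∈ bg k r N d δ) :
    ∑ β ∈ expSet N δ.2, coef β v • ym β = v := by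
  apply (sumAlgEquiv k (Fin N) (Fin (r + 1))).injective
  rw [map_sum]
  refine MvPolynomial.ext _ _ fun β' => ?_
  have e : ∀ β, sumAlgEquiv k (Fin N) (Fin (r + 1)) (coef β v • ym β) = monomial β (coef β v) := fun β => by
    have h1 := DFunLike.congr_fun (sumAlgEquiv_comp_rename_inr (R := k) (S₁ := Fin N) (S₂ := Fin (r + 1))) (coef β v)
    have h2 := DFunLike.congr_fun (sumAlgEquiv_comp_rename_inl (R := k) (S₁ := Fin N) (S₂ := Fin (r + 1))) (monomial β 1)
    simp only [AlgHom.comp_apply, IsScalarTower.coe_toAlgHom', MvPolynomial.algebraMap_eq] at h1 h2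
    rw [smul_def, map_mul, ym]
    erw [h1, h2]
    rw [mapAlgHom_apply, map_monomial, map_one, C_mul_monomial, mul_one]
  simp only [e, coeff_sum, coeff_monomial]
  rw [Finset.sum_ite_eq']
  split_ifs with h
  · rfl
  · exact (coef_eq_zero d hv β' fun h' => h (mem_expSet.2 h')).symm

end Groth.Agent.Lib.ReesReg.Grading
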