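import Groth.Agent.Lib.ReesReg.Bound
import Groth.Agent.Lib.ReesReg.Forms
import Groth.Agent.Lib.ClSub.Basis
import Groth.Agent.Lib.Modules.Stalk
import Groth.Agent.Lib.Modules.Support

/-!
# `I^p` is the sheaf of the graded pieces of `J^p`
-/

universe u

open CategoryTheory CategoryTheory.Limits AlgebraicGeometry TopologicalSpace Opposite MvPolynomial DirectSum

noncomputable section

namespace Groth.Agent.Lib.ReesReg.Iso

open Groth.Agent.Lib Groth.Agent.Lib.ProjCoh.Coherent Groth.Agent.Lib.ProjCoh.Sections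
  Groth.Agent.Lib.ProjTildeExact Groth.Agent.Lib.ReesReg.Dehom Groth.Agent.Lib.ReesReg.Bound

variable {k : Type u} [Field k] {n N : ℕ} {d : ℤ} (f : Fin N → S n k)

/-- The value of a function at a point. -/
def evAt {W : (CohB1.ProjSpace n k).Opens} (x : W) :
    Γ(CohB1.ProjSpace n k, W) →+* Twist.Loc (CohB1.polyGrading n k) x.1 where
  toFun r := (r.1 x).val
  map_one' := HomogeneousLocalization.val_one
  map_mul' _ _ := HomogeneousLocalization.val_mul _ _
  map_zero' := HomogeneousLocalization.val_zero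
  map_add' _ _ := HomogeneousLocalization.val_add _ _

theorem inJ_pow {I : (CohB1.ProjSpace n k).IdealSheafData} {J : Ideal (S n k)}
    {W : (CohB1.ProjSpace n k).affineOpens} (h : ∀ s ∈ I.ideal W, Forms.InJ J W.1 s) (P : ℕ)
    {s : Γ(CohB1.ProjSpace n k, W.1)} (hs : s ∈ (I ^ P).ideal W) : Forms.InJ (J ^ P) W.1 s := by
  intro x
  rw [Scheme.IdealSheafData.ideal_pow, Pi.pow_apply] at hs
  rw [Ideal.map_pow]
  have := Ideal.mem_map_of_mem (evAt x) hs
  rw [Ideal.map_pow] at this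
  exact Ideal.pow_right_mono (show Ideal.map (evAt x) (I.ideal W) ≤ J.map (algebraMap (S n k)
    (Twist.Loc (CohB1.polyGrading n k) x.1)) from Ideal.map_le_iff_le_comap.2 fun r hr => h r hr x) P this

theorem dh_mem_pow {I : (CohB1.ProjSpace n k).IdealSheafData} {i : Fin (n + 1)}
    {W : (CohB1.ProjSpace n k).affineOpens} (hW : W.1 ≤ U i) (h : ∀ j, dh i W.1 hW (f j) ∈ I.ideal W)
    {P : ℕ} {a : S n k} (ha : a ∈ Ideal.span (Set.range f) ^ P) : dh i W.1 hW a ∈ (I ^ P).ideal W := by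
  rw [Scheme.IdealSheafData.ideal_pow, Pi.pow_apply]
  have := Ideal.mem_map_of_mem (dh i W.1 hW) ha
  rw [Ideal.map_pow] at this
  refine Ideal.pow_right_mono (Ideal.map_le_iff_le_comap.2 (Ideal.span_le.2 ?_)) P this
  rintro _ ⟨j, rfl⟩
  exact h j

theorem exists_homog_mul_mem (hf : ∀ j, f j ∈ GrSyz.stdGr k (Fin (n + 1)) d) {P l : ℕ} {a m : S n k}
    (x : ProjectiveSpectrum (CohB1.polyGrading n k)) (ha : a ∈ CohB1.polyGrading n k l)
    (hm : m ∉ x.asHomogeneousIdeal) (hma : m * a ∈ Ideal.span (Set.range f) ^ P) :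
    ∃ (e : ℕ) (v : S n k), v ∈ CohB1.polyGrading n k e ∧ v ∉ x.asHomogeneousIdeal ∧
      v * a ∈ powGr f P (e + l) := by
  classical
  obtain ⟨E, hE⟩ : ∃ E : ℤ, (decompose (GrSyz.stdGr k (Fin (n + 1))) m E : S n k) ∉ x.asHomogeneousIdeal := by
    by_contra h
    push Not at h
    apply hm
    rw [← sum_support_decompose (GrSyz.stdGr k (Fin (n + 1))) m]
    exact Ideal.sum_mem _ fun i _ => h i
  rcases PolyReg.mem_std_cases (decompose (GrSyz.stdGr k (Fin (n + 1))) m E).2 with ⟨e, he, hv⟩ | h0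
  swap
  · exact absurd (show (decompose (GrSyz.stdGr k (Fin (n + 1))) m E : S n k) ∈ x.asHomogeneousIdeal by
      rw [h0]; exact Ideal.zero_mem _) hE
  refine ⟨e, _, hv, hE, SetLike.mul_mem_graded hv ha, ?_⟩
  obtain ⟨w, hw, hw'⟩ := pow_le_lift d f hf P hma (E + l)
  have := ev_mem_pow d f (P := P) rfl hw
  rw [hw', mul_comm m a, PolyReg.coe_decompose_mul (PolyReg.mem_std_natCast.2 ha), add_sub_cancel_right] at this
  rwa [mul_comm]

theorem exists_numerator (hf : ∀ j, f j ∈ GrSyz.stdGr k (Fin (n + 1)) d) {P l : ℕ} {a t : S n k}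
    (x : ProjectiveSpectrum (CohB1.polyGrading n k)) (ha : a ∈ CohB1.polyGrading n k l)
    (htp : t ∉ x.asHomogeneousIdeal)
    (h : (Localization.mk a ⟨t, htp⟩ : Twist.Loc (CohB1.polyGrading n k) x) ∈
      (Ideal.span (Set.range f) ^ P).map (algebraMap (S n k) (Twist.Loc (CohB1.polyGrading n k) x))) :
    ∃ (e : ℕ) (v : S n k), v ∈ CohB1.polyGrading n k e ∧ v ∉ x.asHomogeneousIdeal ∧
      v * a ∈ powGr f P (e + l) := by
  rw [Localization.mk_eq_mk',
    IsLocalization.mk'_mem_map_algebraMap_iff x.asHomogeneousIdeal.toIdeal.primeCompl] at h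
  obtain ⟨w, hw, hwa⟩ := h
  exact exists_homog_mul_mem f hf x ha hw hwa

/-- `I^P ≅ (J^P)~`. -/
theorem nonempty_iso (hf : ∀ j, f j ∈ GrSyz.stdGr k (Fin (n + 1)) d) (I : (CohB1.ProjSpace n k).IdealSheafData)
    (h₁ : ∀ (W : (CohB1.ProjSpace n k).affineOpens), ∀ s ∈ I.ideal W, Forms.InJ (Ideal.span (Set.range f)) W.1 s)
    (h₂ : ∀ (i : Fin (n + 1)) (W : (CohB1.ProjSpace n k).affineOpens) (hW : W.1 ≤ U i),
      ∀ j, dh i W.1 hW (f j) ∈ I.ideal W) (P : ℕ) :
    Nonempty (ClSub.idealMod (I ^ P) ≅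
      GrTilde.tilde (CohB1.polyGrading n k) (powGr f P) 0) := by
  let T : (CohB1.ProjSpace n k).Modules := GrTilde.tilde (CohB1.polyGrading n k) (powGr f P) 0
  have hsh : Shift (powGr f P) (CohB1.polyGrading n k)
      (LinearMap.id : S n k →ₗ[S n k] S n k) 0 0 := fun l a ha _ _ => Or.inl ⟨l, by simp, ha.1⟩
  let φ₀ : T ⟶ TS n k 0 := tildeMap LinearMap.id hsh (by simp)
  haveI : Mono φ₀ := mono_tildeMap _ hsh _ fun _ _ h => h
  let u0 : Coh.structureModule (CohB1.ProjSpace n k) ≅ TS n k 0 :=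
    ProjTilde.Basic.unitIsoTilde (𝒜 := CohB1.polyGrading n k)
  let φ : T ⟶ Coh.structureModule (CohB1.ProjSpace n k) := φ₀ ≫ u0.inv
  have hφ : ∀ (V : (CohB1.ProjSpace n k).Opens) (σ : Γ(T, V)),
      ProjTilde.Basic.ofFun (φ.app V σ) = (φ₀.app V σ : Sect n k 0 V) := fun V σ => by
    change (u0.hom.app V (u0.inv.app V (φ₀.app V σ)) : Sect n k 0 V) = _
    exact ConcreteCategory.congr_hom (congrArg (fun ψ : TS n k 0 ⟶ TS n k 0 => ψ.app V) u0.inv_hom_id) _
  have hzero : φ ≫ ClSub.toSubscheme (I ^ P) = 0 := by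
    refine SheafOfModules.Hom.ext (PresheafOfModules.hom_ext fun Vop => ?_)
    ext σ
    change (ClSub.toSubscheme (I ^ P)).app Vop.unop (φ.app Vop.unop σ) = 0
    refine Modules.Support.eq_zero_of_germ_eq_zero _ fun z hz _ => ?_
    obtain ⟨V', hxV, iV, l, j, ⟨b, hb⟩, ⟨t, ht⟩, nin, hij, hw⟩ := (σ : GrTilde.sect _ (powGr f P) 0 Vop).2 ⟨z, hz⟩
    obtain ⟨i, hi⟩ := exists_chart z
    obtain ⟨W, hWle, hzW⟩ := ClSub.Basis.exists_affine_le (show z ∈ Vop.unop ⊓ (V' ⊓ U i) from ⟨hz, hxV, hi⟩)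
    have hWU : W.1 ≤ U i := fun y hy => (hWle hy).2.2
    have hXj : ∀ y : W.1, (X i : S n k) ^ j ∉ y.1.asHomogeneousIdeal := fun y h =>
      hWU y.2 (y.1.isPrime.mem_of_pow_mem j h)
    have htW : W.1 ≤ Proj.basicOpen (CohB1.polyGrading n k) t := fun y hy => nin ⟨y, (hWle hy).2.1⟩
    obtain ⟨v, hv⟩ : ∃ v : Γ(CohB1.ProjSpace n k, W.1), ProjTilde.Basic.ofFun v =
        ProjTilde.Frac.fracSec (n := 0) W.1 (a := (X i : S n k) ^ j)
          ht (ProjTilde.Frac.Deg.of_mem (SetLike.pow_mem_graded j (ProjSpace.Charts.X_mem_one i))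
            (Or.inl (by simp))) htW :=
      ⟨_, (ProjTilde.Basic.ofFun_surjective (𝒜 := CohB1.polyGrading n k) (U := W.1) _).choose_spec⟩
    have key : (CohB1.ProjSpace n k).presheaf.map (homOfLE fun y hy => (hWle hy).1).op (φ.app Vop.unop σ) =
        dh i W.1 hWU b * v := by
      refine ProjTilde.Basic.ofFun_injective (ProjTilde.Frac.sect_ext fun y => ?_)
      change ((φ.app Vop.unop σ).1 ⟨y.1, (hWle y.2).1⟩).val = ((dh i W.1 hWU b * v).1 y).val
      refine ((congrArg (fun ρ : Sect n k 0 Vop.unop => ProjTilde.Frac.val ρ ⟨y.1, (hWle y.2).1⟩)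
        (hφ Vop.unop σ)).trans ((congrArg (locMap LinearMap.id y.1) (hw ⟨y.1, (hWle y.2).2.1⟩)).trans
          (locMap_mk _ _ _ _))).trans ?_
      refine Eq.trans ?_ (HomogeneousLocalization.val_mul _ _).symm
      rcases hij with hij | hb0
      · have hlj : l = j := by omega
        subst hlj
        rw [val_dh i hWU hb.1 y (hXj y), show (v.1 y).val = ProjTilde.Frac.val (ProjTilde.Basic.ofFun v) y from rfl,
          hv]
        refine Eq.trans ?_ (congrArg (Localization.mk b _ * ·) (ProjTilde.Frac.val_fracSec _ _ _ _ y).symm)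
        change Localization.mk b _ = Localization.mk b _ * Localization.mk ((X i : S n k) ^ l) _
        rw [Localization.mk_mul, Localization.mk_eq_mk_iff, Localization.r_iff_exists]
        exact ⟨1, by simp only [Submonoid.coe_mul, Submonoid.coe_one]; ring⟩
      · have h0 : b = 0 := hb0
        subst h0
        refine ((LocalizedModule.zero_mk _).trans ?_)
        refine Eq.trans (zero_mul _).symm (congrArg (· * _) ?_)
        exact ((congrArg (evAt y) (map_zero (dh i W.1 hWU))).trans (map_zero (evAt y))).symm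
    rw [← TopCat.Presheaf.germ_res_apply _ (homOfLE fun y hy => (hWle hy).1) z hzW]
    refine (congrArg _ ?_).trans (map_zero _)
    refine (ClSub.Basis.map_app (ClSub.toSubscheme (I ^ P)) _ _).symm.trans ?_
    refine (congrArg _ key).trans ?_
    obtain ⟨m, hm⟩ := (ClSub.Sections.mem_range_idealModι_app_affine_iff (I ^ P) W _).2
      (Ideal.mul_mem_right v _ (dh_mem_pow f hWU (h₂ i W hWU) hb.2))
    rw [← hm]
    exact ClSub.Sections.app_kernel_ι_app _ _ _
  let ψ : T ⟶ ClSub.idealMod (I ^ P) := kernel.lift (ClSub.toSubscheme (I ^ P)) φ hzero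
  have hψ : ψ ≫ ClSub.idealModι (I ^ P) = φ := kernel.lift_ι _ _ _
  haveI : Mono φ := mono_comp _ _
  haveI : Mono ψ := mono_of_mono_fac hψ
  haveI : Epi ψ := by
    refine (Modules.Stalk.epi_iff_stalk_surjective _).2 fun z q => ?_
    obtain ⟨V, hz, m, rfl⟩ := TopCat.Presheaf.exists_germ_eq (ClSub.idealMod (I ^ P)).presheaf q
    obtain ⟨W, hWle, hzW⟩ := ClSub.Basis.exists_affine_le hz
    let m' : Γ(ClSub.idealMod (I ^ P), W.1) := (ClSub.idealMod (I ^ P)).presheaf.map (homOfLE hWle).op m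
    let s := (ClSub.idealModι (I ^ P)).app W.1 m'
    have hs : s ∈ (I ^ P).ideal W :=
      (ClSub.Sections.mem_range_idealModι_app_affine_iff _ W s).1 ⟨m', rfl⟩
    have hJ := inJ_pow (h₁ W) P hs
    obtain ⟨V', hV'W, hzV', τ, hτ⟩ := exists_local_lift (LinearMap.id : S n k →ₗ[S n k] S n k) hsh (n := 0)
      (by simp) (ProjTilde.Basic.ofFun s : Γ(TS n k 0, W.1)) z hzW fun l j a t ha ht htp hval hij => by
        obtain ⟨e, v, hv, hvx, hva⟩ := exists_numerator f hf z ha htp (by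
          have h0 : ProjTilde.Frac.val (ProjTilde.Basic.ofFun s) ⟨z, hzW⟩ ∈ _ := hJ ⟨z, hzW⟩
          convert h0 using 1
          exact hval)
        exact ⟨e, v, e + l, v * a, hv, hvx, hva, rfl, hij.imp (fun h => by push_cast; omega)
          fun h => by rw [h, mul_zero]⟩
    refine ⟨T.presheaf.germ V' z hzV' τ, ?_⟩
    refine (TopCat.Presheaf.stalkFunctor_map_germ_apply V' z hzV' ψ.mapPresheaf τ).trans ?_
    refine Eq.trans ?_ (TopCat.Presheaf.germ_res_apply _ (homOfLE (hV'W.trans hWle)) z hzV' m)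
    congr 1
    apply ClSub.Sections.idealModι_app_injective
    apply ProjTilde.Basic.ofFun_injective
    refine ((congrArg ProjTilde.Basic.ofFun (congrArg (fun χ : T ⟶ Coh.structureModule _ => χ.app V' τ) hψ)).trans
      ((hφ V' τ).trans hτ)).trans ?_
    refine Eq.trans ?_ (congrArg ProjTilde.Basic.ofFun (ClSub.Basis.map_app (ClSub.idealModι (I ^ P))
      (hV'W.trans hWle) m).symm)
    refine Eq.trans (congrArg (fun r => (TS n k 0).presheaf.map (homOfLE hV'W).op (ProjTilde.Basic.ofFun r : Γ(TS n k 0, W.1)))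
      (ClSub.Basis.map_app (ClSub.idealModι (I ^ P)) hWle m)) ?_
    rfl
  haveI := isIso_of_mono_of_epi ψ
  exact ⟨(asIso ψ).symm⟩

end Groth.Agent.Lib.ReesReg.Iso
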